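import Cfsg.Agent.H895.SLT.ResCard
import Cfsg.Agent.ClassicalGeometry.PSL2Basic
import Cfsg.Agent.H489.OutClassical
import Cfsg.Agent.H95.LSx.Sub
import Cfsg.Agent.S0813
import Cfsg.Agent.S1162
import Cfsg.Agent.S1163
import Cfsg.Agent.S2126
import Cfsg.Agent.S2060
import Cfsg.Agent.S2061
import Cfsg.Agent.S2062
import Cfsg.Agent.S2119
import Cfsg.Agent.SporadicA.MathieuRecog
import Cfsg.Agent.MTwelveType.SylowModel
import Cfsg.Agent.HNType.Simple
import Cfsg.Agent.H59.EP.UBGenFin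
import Cfsg.Agent.H528.EP.UB3_m3
import Cfsg.Prelude.Def_KGroupFacts
import Cfsg.Agent.H243.EP.OwnNum_m3
import Cfsg.Agent.H933.HT.U33T
import Cfsg.Agent.S2074
import Cfsg.Agent.SporadicRecognition.SuzOrder
import Cfsg.Prelude.Def_Spor_Suz
import Cfsg.Agent.Prune
set_option linter.all false

section
prune_inst 0x7f00000000000000000000000000000000000000000000000000000000000000000000000000000000000000000000000000000000000000000000000000000000000000000000000000000000000000003fffffffffffffffffffffffffffbeffbdffffffff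

-- part: H1/EP8/AutCard
section
set_option linter.all false
open scoped Cfsg.Agent.FastGrp

/-!
# Orders of some automorphism groups (helper1, task 5978)
-/

set_option autoImplicit false

namespace Cfsg.Agent.H1.EP8

open Matrix Cfsg

universe u

variable {T : Type u} [Group T]

theorem aut_congr {X : Type*} [Group X] (e : T ≃* X) {N : ℕ} (h : Nat.card (MulAut X) ∣ N) :
    Nat.card (MulAut T) ∣ N := by
  rwa [Nat.card_congr (MulAut.congr e).toEquiv]

theorem aut_a6 (h : Nonempty (T ≃* alternatingGroup (Fin 6))) : Nat.card (MulAut T) ∣ 1440 := by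
  obtain ⟨e⟩ := h
  exact aut_congr e (by rw [H895.SLT.card_aut_a6])

theorem aut_alt {n : ℕ} (hn : 4 ≤ n) (h6 : n ≠ 6) (e : T ≃* alternatingGroup (Fin n)) :
    Nat.card (MulAut T) ∣ n.factorial := by
  refine aut_congr e ?_
  rw [← Nat.card_congr (Equiv.ofBijective _ (Cfsg.Agent.S2119.result n hn h6)), Nat.card_eq_fintype_card,
    Fintype.card_perm, Fintype.card_fin]

theorem aut_l2 {K : Type} [Field K] [Fintype K] {p f : ℕ} (hp : p.Prime) (hf : 1 ≤ f) (hK : Fintype.card K = p ^ f)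
    (h4 : 4 ≤ p ^ f) :
    Nat.card (MulAut (ProjectiveSpecialLinearGroup (Fin 2) K)) = f * (p ^ f * ((p ^ f) ^ 2 - 1)) := by
  have := Fact.mk hp
  rw [S0813.result (F := K) p f hf hK 2 le_rfl (fun _ => h4), ClassicalGeometry.PSL2Basic.card_PGL2, hK]
  simp

theorem aut_l28 (h : H912.Bd.IsL 2 8 T) : Nat.card (MulAut T) ∣ 1512 := by
  obtain ⟨K, i, j, hK, ⟨e⟩⟩ := h
  refine aut_congr e ?_
  rw [aut_l2 (p := 2) (f := 3) Nat.prime_two (by norm_num) (by rw [hK]; norm_num) (by norm_num)]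
  norm_num

theorem aut_l217 (h : H912.Bd.IsL 2 17 T) : Nat.card (MulAut T) ∣ 4896 := by
  obtain ⟨K, i, j, hK, ⟨e⟩⟩ := h
  refine aut_congr e ?_
  rw [aut_l2 (p := 17) (f := 1) (by norm_num) (by norm_num) (by rw [hK]; norm_num) (by norm_num)]
  norm_num

theorem card_l217 (h : H912.Bd.IsL 2 17 T) : 17 ∣ Nat.card T := by
  obtain ⟨K, i, j, hK, ⟨e⟩⟩ := h
  rw [Nat.card_congr e.toEquiv]
  have h1 := ClassicalGeometry.PSL2Basic.card_PSL2_odd (F := K) (by rw [hK]; decide)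
  rw [hK] at h1
  omega

/-- `|Aut T| = |Out X| |X|` -/
theorem aut_of_out {X : Type*} [Group X] (hs : IsSimpleGroup T) (hn : ¬ ∀ a b : T, a * b = b * a) (e : T ≃* X)
    {o c N : ℕ} (ho : Nat.card (Out X) = o) (hc : Nat.card X = c) (hN : o * c ∣ N) : Nat.card (MulAut T) ∣ N := by
  have : IsSimpleGroup X := e.symm.isSimpleGroup
  have hna : ¬ IsMulCommutative X := by
    intro h
    apply hn
    intro a b
    apply e.injective
    rw [map_mul, map_mul]
    exact h.is_comm.comm _ _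
  have h1 := H489.card_out_mul (H489.center_eq_bot hna)
  rw [ho, hc] at h1
  exact aut_congr e (by rwa [← h1])

theorem aut_sz8 (hs : IsSimpleGroup T) (hn : ¬ ∀ a b : T, a * b = b * a) (h : H912.Bd.IsSz8 T) :
    Nat.card (MulAut T) ∣ 87360 := by
  obtain ⟨K, i, j, hK, ⟨e⟩⟩ := h
  have hK' : Fintype.card K = 2 ^ (2 * 1 + 1) := hK
  have h4 : (4 : ℕ) = 2 ^ (1 + 1) := by norm_num
  have h5 : Cfsg.Lie.Sz K 4 = Cfsg.Lie.Sz K (2 ^ (1 + 1)) := congrArg (Cfsg.Lie.Sz K) h4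
  have h1 := S2126.result le_rfl hK'
  have h2 := (S1163.result le_rfl hK').1
  refine aut_of_out hs hn (e.trans (MulEquiv.subgroupCongr h5)) h1 h2 ?_
  norm_num

theorem aut_m11 (hs : IsSimpleGroup T) (hn : ¬ ∀ a b : T, a * b = b * a) (h : Spor.IsoM11 T) :
    Nat.card (MulAut T) ∣ 7920 := by
  obtain ⟨e⟩ := h
  exact aut_of_out hs hn e S2060.result HNType.Alt.card_M11 (by norm_num)

theorem aut_m12 (hs : IsSimpleGroup T) (hn : ¬ ∀ a b : T, a * b = b * a) (h : Spor.IsoM12 T) :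
    Nat.card (MulAut T) ∣ 190080 := by
  obtain ⟨e⟩ := h
  exact aut_of_out hs hn e S2061.result MTwelveType.SylowModel.card_M12 (by norm_num)

theorem aut_m22 (hs : IsSimpleGroup T) (hn : ¬ ∀ a b : T, a * b = b * a) (h : Spor.IsoM22 T) :
    Nat.card (MulAut T) ∣ 887040 := by
  obtain ⟨e⟩ := h
  exact aut_of_out hs hn e S2062.result SporadicA.MathieuRecog.card_M22 (by norm_num)

end Cfsg.Agent.H1.EP8
end

-- part: H481/EP12/Rows
section
set_option linter.all false
open scoped Cfsg.Agent.FastGrp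

-- part: H481/EP12/Tools
section
/-!
# S3499, small socles by the general bound UB1 + UB2 (helper481)

`card_le_ubq` : `|Q| ≤ ubq l` if `HasSoc A L`, `L` simple nonabelian and `|Aut L|` divides the number with factorisation
`l`; `card_le_core` : the same from the residual core.
-/

set_option autoImplicit false

namespace Cfsg.Agent.H481.EP12

open Subgroup Cfsg.Agent.H284 Cfsg.Agent.H419.EP Cfsg.Agent.H59.EP
open scoped MatrixGroups

/-- the bound for `|Q|` -/
def ubq (l : List (ℕ × ℕ)) : ℕ :=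
  (l.map fun x => x.1 ^ x.2).prod *
    (1 + ((l.map fun x => gal x.1 x.2).sum * ((l.map fun x => x.1 ^ x.2).prod / 6) +
      (l.map fun x => x.1 ^ x.2).prod ^ 2 / 60 + (l.map fun x => x.1 ^ x.2).prod ^ 3 / 12744000) *
      (2 * ((l.map fun x => x.1 ^ x.2).prod / 6)))

variable {Q : Type*} [Group Q] [Finite Q] {A : Subgroup Q} {Γ : Subgroup (MulAut Q)}

theorem card_le_ubq (hs : IsSimpleGroup Q) (h : EPT A Γ) {L : Type*} [Group L] [Finite L] (hS : HasSoc A L)
    (hL : IsSimpleGroup L) (hLn : ¬ ∀ a b : L, a * b = b * a)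
    (l : List (ℕ × ℕ)) (h1 : ∀ x ∈ l, x.1.Prime ∧ 0 < x.2) (h2 : (l.map Prod.fst).Nodup)
    (hc : Nat.card (MulAut L) ∣ (l.map fun x => x.1 ^ x.2).prod) (hB : (l.map fun x => x.1 ^ x.2).prod < 60 ^ 61) :
    Nat.card Q ≤ ubq l := by
  obtain ⟨f, hf⟩ := hS.exists_hom
  have hA : Nat.card A ∣ (l.map fun x => x.1 ^ x.2).prod := (Subgroup.card_dvd_of_injective f hf).trans hc
  have hpos : 0 < (l.map fun x => x.1 ^ x.2).prod := by
    apply List.prod_pos
    intro n hn
    obtain ⟨x, hx, rfl⟩ := List.mem_map.1 hn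
    exact pow_pos (h1 x hx).1.pos _
  have hle := Nat.le_of_dvd hpos hA
  have hi := EPT.index_le_gen_fin hs h (fun K k1 k2 k3 => hS.no_abelian hL hLn k1 k2 k3) l h1 h2 hA hB
  rw [← A.card_mul_index]
  refine Nat.mul_le_mul hle (hi.trans (Nat.add_le_add_left (Nat.mul_le_mul_left _ (Nat.mul_le_mul_left _ ?_)) 1))
  exact Nat.div_le_div_right hle

theorem card_le_core (hs : IsSimpleGroup Q) (h : EPT A Γ) {ι : Type} [Fintype ι] [DecidableEq ι] {F : Type} [Field F]
    [Fintype F] {S : Subgroup (GL ι F)} (m : Model Q S) {P : Subgroup (GL ι F)}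
    (hP : Cfsg.Geo.IsResidualCore (m.hat A) P) {L : Type*} [Group L]
    (e : (P ⧸ (Cfsg.Geo.scalars ι F).subgroupOf P) ≃* L)
    (l : List (ℕ × ℕ)) (h1 : ∀ x ∈ l, x.1.Prime ∧ 0 < x.2) (h2 : (l.map Prod.fst).Nodup)
    (hc : Nat.card (MulAut L) ∣ (l.map fun x => x.1 ^ x.2).prod) (hB : (l.map fun x => x.1 ^ x.2).prod < 60 ^ 61) :
    Nat.card Q ≤ ubq l := by
  have : Finite (GL ι F) := inferInstance
  have : Finite (P ⧸ (Cfsg.Geo.scalars ι F).subgroupOf P) := Quotient.finite _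
  refine card_le_ubq hs h (hasSoc_of_core m hP) hP.simple (fun hc => hP.nonabelian ⟨⟨hc⟩⟩) l h1 h2 ?_ hB
  rwa [Nat.card_congr (MulAut.congr e).toEquiv]

/-- `|Aut G|` divides `|G| |Out G|` -/
theorem card_aut_dvd (G : Type*) [Group G] [Finite G] : Nat.card (MulAut G) ∣ Nat.card G * Nat.card (Cfsg.Out G) := by
  rw [← (Cfsg.Inn G).card_mul_index]
  exact Nat.mul_dvd_mul_right (Subgroup.card_range_dvd _) _

end Cfsg.Agent.H481.EP12
end

-- part: H481/EP12/Rows
section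
/-!
# S3499, unitary residual rows in dimension 7, 8, 11, 12 from the general bound (helper481)

The lists S5812, S5821, S5857, S5866 are hypotheses; left over: `Suz < U₁₂(2)`.
-/

set_option autoImplicit false

namespace Cfsg.Agent.H481.EP12

open Subgroup Cfsg Cfsg.Agent.H284 Cfsg.Agent.H419.EP Cfsg.Agent.H59.EP
open scoped MatrixGroups

/-! ### orders -/

theorem pow_le {Q : Type*} [Group Q] {F : Type*} [Field F] [Fintype F] {n q k : ℕ} (hF : Fintype.card F = q ^ 2)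
    (hk : k + 2 = n * (n - 1)) (hn : 1 ≤ n) (m : Model Q (Cfsg.GU n F q ⊓ Cfsg.Geo.specialLinear (Fin n) F)) {b : ℕ}
    (hb : b ≤ q) (hb0 : 0 < b) : b ^ k ≤ Nat.card Q := by
  have h1 := H107.EP.pow_le_SU hF hn m
  have hq : 0 < q := by omega
  have h2 : q ^ k * q ^ 2 ≤ Nat.card Q * q ^ 2 := by
    rw [← pow_add, hk]
    exact h1.trans (Nat.mul_le_mul_left _ (Nat.sub_le _ _))
  exact (Nat.pow_le_pow_left hb k).trans (Nat.le_of_mul_le_mul_right h2 (pow_pos hq 2))

/-! ### automorphism groups -/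

theorem aut_l223 : Nat.card (MulAut (Matrix.ProjectiveSpecialLinearGroup (Fin 2) (ZMod 23))) = 12144 := by
  have : Fact (Nat.Prime 23) := ⟨by norm_num⟩
  rw [Cfsg.Agent.S0813.result 23 1 le_rfl (by rw [ZMod.card, pow_one]) 2 le_rfl (fun _ => by norm_num),
    Cfsg.Agent.S0265.result, Cfsg.Agent.ClassicalGeometry.PSL2Basic.card_SL2, ZMod.card]
  norm_num

theorem aut_u52 {K : Type} [Field K] [Fintype K] (hK : Fintype.card K = 4) :
    Nat.card (MulAut (Cfsg.PSU 5 K 2)) ∣ 27371520 := by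
  have h2 : Fact (Nat.Prime 2) := ⟨Nat.prime_two⟩
  have hK' : Fintype.card K = 2 ^ 2 := by rw [hK]; norm_num
  have h := S0815.result 2 1 le_rfl (by norm_num) hK' 5 (by norm_num) (by norm_num)
  have h1 := S0280.result hK' 5 (by norm_num)
  simp [Finset.prod_range_succ, Nat.even_iff] at h1
  have h2 : Nat.card (Cfsg.PSU 5 K 2) = 13685760 := by omega
  rw [h, h2]
  norm_num

theorem aut_suz {L : Type*} [Group L] (h : Spor.IsoSuz L) : Nat.card (MulAut L) ∣ 896690995200 := by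
  obtain ⟨e⟩ := h
  have hc := SporadicRecognition.SuzOrder.card_Suz
  have : Finite Spor.Suz := Nat.finite_of_card_ne_zero (by rw [hc]; norm_num)
  rw [Nat.card_congr (MulAut.congr e).toEquiv]
  refine (card_aut_dvd _).trans ?_
  rw [hc, S2074.result]

/-! ### the numbers -/

theorem ubq_u33 : ubq [(2, 6), (3, 3), (7, 1)] < 5 ^ 40 := by decide +kernel

theorem ubq_l34 : ubq [(2, 8), (3, 3), (5, 1), (7, 1)] < 5 ^ 54 := by decide +kernel

theorem ubq_l223 : ubq [(2, 4), (3, 1), (11, 1), (23, 1)] < 5 ^ 108 := by decide +kernel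

theorem ubq_u52 : ubq [(2, 11), (3, 5), (5, 1), (11, 1)] < 5 ^ 108 := by decide +kernel

theorem ubq_suz : ubq [(2, 14), (3, 7), (5, 2), (7, 1), (11, 1), (13, 1)] < 5 ^ 130 := by decide +kernel

/-! ### the lists -/

/-- the list S5812 -/
def R5812 : Prop := ∀ {F : Type} [Field F] [Fintype F] (q : ℕ), Fintype.card F = q ^ 2 →
    ∀ (H : Subgroup (Matrix.GeneralLinearGroup (Fin 7) F)),
    Cfsg.Geo.IsMaximalIn (Cfsg.GU 7 F q ⊓ Cfsg.Geo.specialLinear (Fin 7) F) H → Cfsg.Geo.InUnitaryResidualClass H →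
    ∃ P : Subgroup (Matrix.GeneralLinearGroup (Fin 7) F), Cfsg.Geo.IsResidualCore H P ∧ 5 ≤ q ∧
    (∃ (K : Type) (_ : Field K) (_ : Fintype K), Fintype.card K = 9 ∧
      Nonempty ((P ⧸ (Cfsg.Geo.scalars (Fin 7) F).subgroupOf P) ≃* Cfsg.PSU 3 K 3))

/-- the list S5857 -/
def R5857 : Prop := ∀ {F : Type} [Field F] [Fintype F] (q : ℕ), Fintype.card F = q ^ 2 →
    ∀ (H : Subgroup (Matrix.GeneralLinearGroup (Fin 11) F)),
    Cfsg.Geo.IsMaximalIn (Cfsg.GU 11 F q ⊓ Cfsg.Geo.specialLinear (Fin 11) F) H → Cfsg.Geo.InUnitaryResidualClass H →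
    ∃ P : Subgroup (Matrix.GeneralLinearGroup (Fin 11) F), Cfsg.Geo.IsResidualCore H P ∧ 5 ≤ q ∧
    (Nonempty ((P ⧸ (Cfsg.Geo.scalars (Fin 11) F).subgroupOf P) ≃* Matrix.ProjectiveSpecialLinearGroup (Fin 2) (ZMod 23)) ∨
     (∃ (K : Type) (_ : Field K) (_ : Fintype K), Fintype.card K = 4 ∧
      Nonempty ((P ⧸ (Cfsg.Geo.scalars (Fin 11) F).subgroupOf P) ≃* Cfsg.PSU 5 K 2)))

/-- the list S5866 -/
def R5866 : Prop := ∀ {F : Type} [Field F] [Fintype F] (q : ℕ), Fintype.card F = q ^ 2 →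
    ∀ (H : Subgroup (Matrix.GeneralLinearGroup (Fin 12) F)),
    Cfsg.Geo.IsMaximalIn (Cfsg.GU 12 F q ⊓ Cfsg.Geo.specialLinear (Fin 12) F) H → Cfsg.Geo.InUnitaryResidualClass H →
    ∃ P : Subgroup (Matrix.GeneralLinearGroup (Fin 12) F), Cfsg.Geo.IsResidualCore H P ∧
    ((Nonempty ((P ⧸ (Cfsg.Geo.scalars (Fin 12) F).subgroupOf P) ≃*
        Matrix.ProjectiveSpecialLinearGroup (Fin 2) (ZMod 23)) ∧ 5 ≤ q) ∨
     (Cfsg.Spor.IsoSuz (P ⧸ (Cfsg.Geo.scalars (Fin 12) F).subgroupOf P) ∧ (q = 2 ∨ 5 ≤ q)))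

/-! ### the rows -/

variable {Q : Type} [Group Q] [Finite Q] {A : Subgroup Q} {Γ : Subgroup (MulAut Q)}

theorem row_seven (hl : R5812) (hs : IsSimpleGroup Q) (h : EPT A Γ) {F : Type} [Field F] [Fintype F] {q : ℕ}
    (hF : Fintype.card F = q ^ 2) (m : Model Q (Cfsg.GU 7 F q ⊓ Cfsg.Geo.specialLinear (Fin 7) F))
    (hres : Cfsg.Geo.InUnitaryResidualClass (m.hat A)) : False := by
  obtain ⟨P, hP, hq, K, _, _, hK, ⟨e⟩⟩ := hl q hF (m.hat A) (m.isMaximalIn h.max) hres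
  have h1 := card_le_core hs h m hP e [(2, 6), (3, 3), (7, 1)] (by simp; norm_num) (by decide)
    (by rw [H933.HT.u33_aut (by rw [hK]; norm_num)]; norm_num) (by norm_num)
  have h2 := pow_le (k := 40) hF (by norm_num) (by norm_num) m hq (by norm_num)
  exact absurd (h2.trans h1) (not_le.2 ubq_u33)

theorem row_eight (hl : H107.EP.ListU) (hs : IsSimpleGroup Q) (h : EPT A Γ) {F : Type} [Field F] [Fintype F] {q : ℕ}
    (hF : Fintype.card F = q ^ 2) (m : Model Q (Cfsg.GU 8 F q ⊓ Cfsg.Geo.specialLinear (Fin 8) F))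
    (hres : Cfsg.Geo.InUnitaryResidualClass (m.hat A)) : False := by
  obtain ⟨P, hP, hp, hq, ⟨K, _, _, hK, ⟨e⟩⟩⟩ := hl q hF (m.hat A) (m.isMaximalIn h.max) hres
  have hq5 : 5 ≤ q := by omega
  have h1 := card_le_core hs h m hP e [(2, 8), (3, 3), (5, 1), (7, 1)] (by simp; norm_num) (by decide)
    (by rw [H107.EP.card_aut_l34 hK]; norm_num) (by norm_num)
  have h2 := pow_le (k := 54) hF (by norm_num) (by norm_num) m hq5 (by norm_num)
  exact absurd (h2.trans h1) (not_le.2 ubq_l34)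

theorem row_eleven (hl : R5857) (hs : IsSimpleGroup Q) (h : EPT A Γ) {F : Type} [Field F] [Fintype F] {q : ℕ}
    (hF : Fintype.card F = q ^ 2) (m : Model Q (Cfsg.GU 11 F q ⊓ Cfsg.Geo.specialLinear (Fin 11) F))
    (hres : Cfsg.Geo.InUnitaryResidualClass (m.hat A)) : False := by
  obtain ⟨P, hP, hq, h0⟩ := hl q hF (m.hat A) (m.isMaximalIn h.max) hres
  have h2 := pow_le (k := 108) hF (by norm_num) (by norm_num) m hq (by norm_num)
  rcases h0 with ⟨⟨e⟩⟩ | ⟨K, _, _, hK, ⟨e⟩⟩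
  · have h1 := card_le_core hs h m hP e [(2, 4), (3, 1), (11, 1), (23, 1)] (by simp; norm_num) (by decide)
      (by rw [aut_l223]; norm_num) (by norm_num)
    exact absurd (h2.trans h1) (not_le.2 ubq_l223)
  · have h1 := card_le_core hs h m hP e [(2, 11), (3, 5), (5, 1), (11, 1)] (by simp; norm_num) (by decide)
      ((aut_u52 hK).trans (by norm_num)) (by norm_num)
    exact absurd (h2.trans h1) (not_le.2 ubq_u52)

/-- the missing case `Suz < U₁₂(2)` -/
def SuzTwelve : Prop := ∀ {Q : Type} [Group Q] [Finite Q], IsSimpleGroup Q → ∀ {A : Subgroup Q}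
    {Γ : Subgroup (MulAut Q)}, EPT A Γ → ∀ {F : Type} [Field F] [Fintype F], Fintype.card F = 2 ^ 2 →
    Model Q (Cfsg.GU 12 F 2 ⊓ Cfsg.Geo.specialLinear (Fin 12) F) → ∀ (L : Type) [Group L], Spor.IsoSuz L →
    HasSoc A L → False

theorem row_twelve (hl : R5866) (hsuz : SuzTwelve) (hs : IsSimpleGroup Q) (h : EPT A Γ) {F : Type} [Field F]
    [Fintype F] {q : ℕ} (hF : Fintype.card F = q ^ 2)
    (m : Model Q (Cfsg.GU 12 F q ⊓ Cfsg.Geo.specialLinear (Fin 12) F))
    (hres : Cfsg.Geo.InUnitaryResidualClass (m.hat A)) : False := by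
  obtain ⟨P, hP, h0⟩ := hl q hF (m.hat A) (m.isMaximalIn h.max) hres
  rcases h0 with ⟨⟨e⟩, hq⟩ | ⟨hL, rfl | hq⟩
  · have h2 := pow_le (k := 130) hF (by norm_num) (by norm_num) m hq (by norm_num)
    have h1 := card_le_core hs h m hP e [(2, 4), (3, 1), (11, 1), (23, 1)] (by simp; norm_num) (by decide)
      (by rw [aut_l223]; norm_num) (by norm_num)
    exact absurd (h2.trans h1) (not_le.2 (ubq_l223.trans (by norm_num)))
  · exact hsuz hs h hF m _ hL (hasSoc_of_core m hP)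
  · have h2 := pow_le (k := 130) hF (by norm_num) (by norm_num) m hq (by norm_num)
    have h1 := card_le_core hs h m hP (MulEquiv.refl _) [(2, 14), (3, 7), (5, 2), (7, 1), (11, 1), (13, 1)]
      (by simp; norm_num) (by decide) ((aut_suz hL).trans (by norm_num)) (by norm_num)
    exact absurd (h2.trans h1) (not_le.2 ubq_suz)

end Cfsg.Agent.H481.EP12
end
end
end
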